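import Cfsg.Agent.PSoluble.TwoConjugates
import Cfsg.Agent.ZJ.DihedralSection
import Cfsg.Prelude.Def_LocalEven

/-!
A group acting faithfully on an elementary abelian 2-group with a small offender involves `S₃`.
-/

set_option autoImplicit false
set_option linter.style.haveILetI false

namespace CfsgLib.OffenderTwo

open Subgroup
open scoped commutatorElement

universe u

variable {X : Type u} [Group X] [Finite X]

/-- Thompson's `A × B` lemma for an element of odd prime order and an elementary 2-group. -/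
theorem centralizes_of_fixed {V B : Subgroup X} [IsMulCommutative V] (hVsq : ∀ v ∈ V, v ^ 2 = 1)
    (hBsq : ∀ b ∈ B, b ^ 2 = 1) (hBV : B ≤ normalizer (V : Set X)) {y : X}
    (hyV : y ∈ normalizer (V : Set X)) {p : ℕ} (hp : p.Prime) (hp2 : p ≠ 2) (hy : orderOf y = p)
    (hBy : ∀ b ∈ B, b * y = y * b)
    (hfix : ∀ v ∈ V, (∀ b ∈ B, b * v = v * b) → y * v = v * y) :
    ∀ v ∈ V, y * v = v * y := by
  classical
  haveI : Fact (Nat.Prime 2) := ⟨Nat.prime_two⟩
  set A := zpowers y with hA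
  have hAV : A ≤ normalizer (V : Set X) := zpowers_le.2 hyV
  have hV2 : IsPGroup 2 V := fun v => ⟨1, Subtype.ext (by simpa using hVsq v v.2)⟩
  obtain ⟨m, hm⟩ := IsPGroup.iff_card.1 hV2
  have hcop : (Nat.card A).Coprime (Nat.card V) := by
    rw [Nat.card_zpowers, hy, hm]
    exact Nat.Coprime.pow_right _ ((Nat.coprime_primes hp Nat.prime_two).2 hp2)
  set S := ⁅V, A⁆ with hS
  have hSV : S ≤ V := le_normalizer_iff_commutator_le_left.1 hAV
  by_contra hcon
  have hSne : S ≠ ⊥ := by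
    intro h
    rw [hS, commutator_eq_bot_iff_le_centralizer] at h
    exact hcon fun v hv => mem_centralizer_iff.1 (h hv) y (mem_zpowers y)
  -- `B` acts on `S`
  have hBS : B ≤ normalizer (S : Set X) := by
    have hf : ∀ b ∈ B, ∀ s ∈ S, b * s * b⁻¹ ∈ S := by
      intro b hb s hs
      have h1 : S.map (MulAut.conj b).toMonoidHom ≤ S := by
        rw [hS, Subgroup.map_commutator]
        refine Subgroup.commutator_mono ?_ ?_
        · rintro _ ⟨v, hv, rfl⟩
          exact (mem_normalizer_iff.1 (hBV hb) v).1 hv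
        · rw [hA, MonoidHom.map_zpowers]
          refine zpowers_le.2 ?_
          show b * y * b⁻¹ ∈ zpowers y
          rw [hBy b hb, mul_inv_cancel_right]
          exact mem_zpowers y
      exact h1 ⟨s, hs, rfl⟩
    intro b hb
    refine mem_normalizer_iff.2 fun s => ⟨hf b hb s, fun hs => ?_⟩
    simpa [mul_assoc] using hf b⁻¹ (inv_mem hb) _ hs
  let _ : MulAction B S :=
    MulAction.compHom S ((Subgroup.normalizerMonoidHom S).comp (Subgroup.inclusion hBS))
  have hBp : IsPGroup 2 B := fun b => ⟨1, Subtype.ext (by simpa using hBsq b b.2)⟩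
  have h2S : 2 ∣ Nat.card S :=
    ((hV2.to_le hSV).card_eq_or_dvd).resolve_left fun h => hSne (eq_bot_of_card_eq _ h)
  have h1fix : (1 : S) ∈ MulAction.fixedPoints B S := fun b => Subtype.ext (by
    show (b : X) * 1 * (b : X)⁻¹ = 1
    group)
  obtain ⟨s, hs, hs1⟩ := hBp.exists_fixed_point_of_prime_dvd_card_of_fixed_point S h2S h1fix
  have hsB : ∀ b ∈ B, b * (s : X) = s * b := fun b hb => by
    have h : b * (s : X) * b⁻¹ = s := congrArg Subtype.val (hs ⟨b, hb⟩)
    exact mul_inv_eq_iff_eq_mul.1 h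
  have hmem : (s : X) ∈ (V ⊓ centralizer (A : Set X)) ⊓ ⁅V, A⁆ := by
    refine ⟨⟨hSV s.2, mem_centralizer_iff.2 fun a ha => ?_⟩, s.2⟩
    obtain ⟨i, rfl⟩ := ha
    exact (Commute.zpow_left (hfix s (hSV s.2) hsB) i).eq
  rw [CfsgLib.CoprimeAct.fixed_inf_commutator_abelian hAV hcop, mem_bot] at hmem
  exact hs1 (Subtype.ext hmem.symm)

/-- A power trivial on a subgroup of index at most four of an elementary abelian group. -/
theorem centralizes_of_index_le_four {W U : Subgroup X} [IsMulCommutative W] (hUW : U ≤ W)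
    (hWsq : ∀ w ∈ W, w ^ 2 = 1) {y : X} {p : ℕ} (hp : p.Prime) (hp5 : 5 ≤ p) (hy : y ^ p = 1)
    (hyW : y ∈ normalizer (W : Set X)) (hU : ∀ w ∈ U, y * w = w * y) (hidx : U.relIndex W ≤ 4) :
    ∀ w ∈ W, y * w = w * y := by
  classical
  set U' := U.subgroupOf W with hU'
  haveI : U'.Normal := by
    refine ⟨fun u hu g => ?_⟩
    rwa [show g * u * g⁻¹ = u by
      rw [show g * u = u * g from Subtype.ext (congrArg Subtype.val (mul_comm' g u)), mul_inv_cancel_right]]
  have hf : ∀ w ∈ W, y * w * y⁻¹ ∈ W := fun w hw => (mem_normalizer_iff.1 hyW w).1 hw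
  let σ : W → W := fun w => ⟨y * w * y⁻¹, hf w w.2⟩
  let τ : (W ⧸ U') → (W ⧸ U') := Quotient.map' σ fun a b hab => by
    rw [QuotientGroup.leftRel_apply] at hab ⊢
    rw [hU', mem_subgroupOf] at hab ⊢
    show (y * (a : X) * y⁻¹)⁻¹ * (y * b * y⁻¹) ∈ U
    have h1 : (a : X)⁻¹ * b ∈ U := hab
    rw [show (y * (a : X) * y⁻¹)⁻¹ * (y * b * y⁻¹) = y * ((a : X)⁻¹ * b) * y⁻¹ by group,
      hU _ h1, mul_inv_cancel_right]
    exact h1
  have hiter : ∀ (n : ℕ) (w : W), ((σ^[n] w : W) : X) = y ^ n * w * (y ^ n)⁻¹ := by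
    intro n w
    induction n with
    | zero => simp
    | succ n ih =>
      rw [Function.iterate_succ_apply']
      show y * ((σ^[n] w : W) : X) * y⁻¹ = _
      rw [ih, pow_succ']
      group
  have hσp : ∀ w : W, σ^[p] w = w := fun w => Subtype.ext (by rw [hiter, hy]; simp)
  intro w hw
  have hτ : τ^[p] (QuotientGroup.mk (⟨w, hw⟩ : W)) = QuotientGroup.mk ⟨w, hw⟩ := by
    have : ∀ n (v : W), τ^[n] (QuotientGroup.mk v) = QuotientGroup.mk (σ^[n] v) := by
      intro n v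
      induction n with
      | zero => rfl
      | succ n ih => rw [Function.iterate_succ_apply', Function.iterate_succ_apply', ih]; rfl
    rw [this, hσp]
  have hd : Function.minimalPeriod τ (QuotientGroup.mk (⟨w, hw⟩ : W)) ∣ p :=
    Function.IsPeriodicPt.minimalPeriod_dvd hτ
  have h1 : Function.minimalPeriod τ (QuotientGroup.mk (⟨w, hw⟩ : W)) = 1 := by
    refine ((Nat.dvd_prime hp).1 hd).resolve_right fun he => ?_
    have h2 := Nat.card_le_card_of_injective
      (fun i : Fin p => τ^[(i : ℕ)] (QuotientGroup.mk (⟨w, hw⟩ : W))) fun i j hij =>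
        Fin.ext (Function.iterate_injOn_Iio_minimalPeriod (f := τ) (show (i : ℕ) < _ by rw [he]; exact i.2)
          (show (j : ℕ) < _ by rw [he]; exact j.2) hij)
    rw [Nat.card_fin] at h2
    have : Nat.card (W ⧸ U') = U.relIndex W := rfl
    omega
  have h4 := Function.minimalPeriod_eq_one_iff_isFixedPt.1 h1
  have h5 : (σ ⟨w, hw⟩)⁻¹ * ⟨w, hw⟩ ∈ U' := QuotientGroup.eq.1 h4
  rw [hU', mem_subgroupOf] at h5
  set u := (y * w * y⁻¹)⁻¹ * w with hu
  have hu' : u ∈ U := h5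
  have hyw : y * w * y⁻¹ = w * u⁻¹ := by rw [hu]; group
  have hn : ∀ n : ℕ, y ^ n * w * (y ^ n)⁻¹ = w * (u⁻¹) ^ n := by
    intro n
    induction n with
    | zero => simp
    | succ n ih =>
      calc y ^ (n + 1) * w * (y ^ (n + 1))⁻¹ = y * (y ^ n * w * (y ^ n)⁻¹) * y⁻¹ := by
            rw [pow_succ']; group
        _ = (y * w * y⁻¹) * (y * (u⁻¹) ^ n * y⁻¹) := by rw [ih]; group
        _ = w * (u⁻¹) ^ (n + 1) := by
            rw [hU _ (pow_mem (inv_mem hu') n), mul_inv_cancel_right, hyw, pow_succ', mul_assoc]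
  have h6 := hn p
  rw [hy, one_mul, inv_one, mul_one, eq_comm, mul_eq_left] at h6
  have h7 : (u⁻¹) ^ 2 = 1 := hWsq _ (hUW (inv_mem hu'))
  have h8 : u⁻¹ = 1 := orderOf_eq_one_iff.1 (Nat.eq_one_of_dvd_coprimes
    ((Nat.coprime_primes hp Nat.prime_two).2 (by omega)) (orderOf_dvd_of_pow_eq_one h6)
    (orderOf_dvd_of_pow_eq_one h7))
  rw [h8, mul_one] at hyw
  exact mul_inv_eq_iff_eq_mul.1 hyw

/-- The offender bound in the absence of inverted elements of order 3. -/
theorem sq_le_relIndex (M V O : Subgroup X) [IsMulCommutative V] (hVsq : ∀ v ∈ V, v ^ 2 = 1)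
    (hMV : M ≤ normalizer (V : Set X)) (hfaith : M ⊓ centralizer (V : Set X) = ⊥) (hOM : O ≤ M)
    (hOodd : Odd (Nat.card O))
    (hno3 : ∀ a ∈ M, ∀ x ∈ M, orderOf x = 3 → a * x * a⁻¹ ≠ x⁻¹) :
    ∀ (n : ℕ) (A : Subgroup X), Nat.card A = n → A ≤ M → (∀ a ∈ A, ∀ b ∈ A, a * b = b * a) →
      (∀ a ∈ A, a ^ 2 = 1) → A ≤ normalizer (O : Set X) →
      (∀ a ∈ A, (∀ o ∈ O, a * o = o * a) → a = 1) →
      n ^ 2 ≤ (V ⊓ centralizer (A : Set X)).relIndex V := by
  haveI : Fact (Nat.Prime 2) := ⟨Nat.prime_two⟩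
  intro n
  induction n using Nat.strong_induction_on with | _ n ih => ?_
  intro A hn hAM hAc hAe hAO hAf
  rcases eq_or_ne A ⊥ with rfl | hA1
  · rw [card_bot] at hn
    subst hn
    have h0 : (V ⊓ centralizer ((⊥ : Subgroup X) : Set X)).relIndex V ≠ 0 :=
      index_ne_zero_of_finite
    omega
  obtain ⟨⟨a₀, ha₀⟩, ha₀'⟩ := Subgroup.ne_bot_iff_exists_ne_one.1 hA1
  have ha₀1 : a₀ ≠ 1 := fun h => ha₀' (Subtype.ext h)
  obtain ⟨k₀, hk₀, hne₀⟩ : ∃ k ∈ O, ¬ Commute a₀ k := by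
    by_contra h
    push Not at h
    exact ha₀1 (hAf a₀ ha₀ fun o ho => (h o ho).eq)
  obtain ⟨B, hBA, hBidx, k, hk, hBk, a, ha, hak⟩ := CfsgLib.PSoluble.TwoConj.exists_hyperplane
    (p := 2) (K := O) hAc hAe hAO (Nat.coprime_two_right.2 hOodd) hk₀ ha₀ hne₀
  have hai : a⁻¹ = a := inv_eq_of_mul_eq_one_right (by rw [← sq]; exact hAe a ha)
  -- an inverted element centralized by `B`
  set x₀ := k⁻¹ * (a * k * a⁻¹) with hx₀
  have hx₀O : x₀ ∈ O := mul_mem (inv_mem hk) ((mem_normalizer_iff.1 (hAO ha) k).1 hk)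
  have hx₀inv : a * x₀ * a⁻¹ = x₀⁻¹ := by
    calc a * x₀ * a⁻¹ = (a * k * a⁻¹)⁻¹ * ((a * a) * k * (a⁻¹ * a⁻¹)) := by rw [hx₀]; group
      _ = x₀⁻¹ := by
          rw [show a⁻¹ * a⁻¹ = 1 by rw [hai, ← sq]; exact hAe a ha, ← sq, hAe a ha, hx₀]; group
  have hx₀1 : x₀ ≠ 1 := fun h => hak (mul_inv_eq_iff_eq_mul.1 (inv_mul_eq_one.1 h).symm)
  obtain ⟨p, hp, hpd⟩ := Nat.exists_prime_and_dvd (fun h => hx₀1 (orderOf_eq_one_iff.1 h))
  set x := x₀ ^ (orderOf x₀ / p) with hx
  have hxo : orderOf x = p := orderOf_pow_orderOf_div (orderOf_pos x₀).ne' hpd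
  have hxO : x ∈ O := pow_mem hx₀O _
  have hpodd : p ≠ 2 := by
    rintro rfl
    have h1 : orderOf x₀ ∣ Nat.card O := Subgroup.orderOf_dvd_natCard O hx₀O
    exact Nat.two_dvd_ne_zero.2 (Nat.odd_iff.1 hOodd) (hpd.trans h1)
  have hxinv : a * x * a⁻¹ = x⁻¹ := by rw [hx, ← conj_pow, hx₀inv, inv_pow]
  have hp5 : 5 ≤ p := by
    rcases (show p = 3 ∨ p = 4 ∨ 5 ≤ p by have := hp.two_le; omega) with rfl | rfl | h
    · exact absurd hxinv (hno3 a (hAM ha) x (hOM hxO) hxo)
    · exact absurd hp (by norm_num)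
    · exact h
  have hBx₀ : ∀ b ∈ B, b * x₀ = x₀ * b := fun b hb => by
    have h1 : Commute b a := hAc b (hBA hb) a ha
    have h2 : Commute b k := hBk b hb
    exact (h2.inv_right.mul_right ((h1.mul_right h2).mul_right h1.inv_right)).eq
  have hBx : ∀ b ∈ B, b * x = x * b := fun b hb =>
    (Commute.pow_right (hBx₀ b hb) _).eq
  -- induction
  have haB : a ∉ B := fun h => hak (hBk a h)
  have hcard : Nat.card A = Nat.card B * 2 := by
    have h1 := (B.subgroupOf A).card_mul_index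
    rw [Nat.card_congr (subgroupOfEquivOfLe hBA).toEquiv, ← relIndex, hBidx] at h1
    exact h1.symm
  have hih := ih (Nat.card B) (by
    have : 0 < Nat.card B := Nat.card_pos
    omega) B rfl (hBA.trans hAM) (fun u hu v hv => hAc u (hBA hu) v (hBA hv))
    (fun u hu => hAe u (hBA hu)) (hBA.trans hAO) (fun u hu => hAf u (hBA hu))
  -- the fixed space of `B`
  set W := V ⊓ centralizer (B : Set X) with hW
  haveI : IsMulCommutative W := ⟨⟨fun u v => Subtype.ext
    (congrArg Subtype.val (mul_comm' (⟨u, u.2.1⟩ : V) ⟨v, v.2.1⟩) :)⟩⟩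
  have hWnorm : ∀ g ∈ M, (∀ b ∈ B, b * g = g * b) → ∀ w ∈ W, g * w * g⁻¹ ∈ W := by
    intro g hg hgB w hw
    refine mem_inf.2 ⟨(mem_normalizer_iff.1 (hMV hg) w).1 (mem_inf.1 hw).1,
      mem_centralizer_iff.2 fun b hb => ?_⟩
    have h1 : Commute b g := hgB b hb
    have h2 : Commute b w := mem_centralizer_iff.1 (mem_inf.1 hw).2 b hb
    exact ((h1.mul_right h2).mul_right h1.inv_right).eq
  have hxW : x ∈ normalizer (W : Set X) := by
    refine mem_normalizer_iff.2 fun w => ⟨hWnorm x (hOM hxO) hBx w, fun h => ?_⟩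
    have := hWnorm x⁻¹ (inv_mem (hOM hxO)) (fun b hb => (Commute.inv_right (hBx b hb)).eq) _ h
    simpa [mul_assoc] using this
  have haBc : ∀ b ∈ B, b * a = a * b := fun b hb => hAc b (hBA hb) a ha
  -- `C_V(A)`
  set U := W ⊓ centralizer ({a} : Set X) with hU
  have hUeq : V ⊓ centralizer (A : Set X) = U := by
    ext v
    rw [hU, hW, mem_inf, mem_inf, mem_inf, mem_centralizer_singleton_iff]
    simp only [mem_centralizer_iff]
    constructor
    · rintro ⟨h1, h2⟩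
      exact ⟨⟨h1, fun b hb => h2 b (hBA hb)⟩, (h2 a ha).symm⟩
    · rintro ⟨⟨h1, h2⟩, h3⟩
      refine ⟨h1, fun c hc => ?_⟩
      by_cases hcB : c ∈ B
      · exact h2 c hcB
      · have hac : a * c ∈ B := by
          have := (mul_mem_iff_of_index_two hBidx (a := (⟨a, ha⟩ : A)) (b := ⟨c, hc⟩)).2
            ⟨fun h => absurd h haB, fun h => absurd h hcB⟩
          exact this
        have e : c = a⁻¹ * (a * c) := by group
        rw [e]
        exact ((Commute.inv_left (show Commute a v from h3.symm)).mul_left (h2 _ hac)).eq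
  have hmove : 3 ≤ U.relIndex W := by
    by_contra hlt
    set W1 := U.map (MulAut.conj x).toMonoidHom with hW1
    have hW1W : W1 ≤ W := by
      rintro _ ⟨u, hu, rfl⟩
      exact (mem_normalizer_iff.1 hxW u).1 (mem_inf.1 hu).1
    have hr : W1.relIndex W = U.relIndex W := by
      have h1 := (U.subgroupOf W).card_mul_index
      have h2 := (W1.subgroupOf W).card_mul_index
      rw [Nat.card_congr (subgroupOfEquivOfLe hW1W).toEquiv,
        card_map_of_injective (MulEquiv.injective _)] at h2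
      rw [Nat.card_congr (subgroupOfEquivOfLe (inf_le_left : U ≤ W)).toEquiv] at h1
      exact Nat.eq_of_mul_eq_mul_left Nat.card_pos (h2.trans h1.symm)
    have hle : (U ⊓ W1).relIndex W ≤ 4 := by
      refine relIndex_inf_le.trans ?_
      rw [hr]
      exact Nat.mul_le_mul (show U.relIndex W ≤ 2 by omega) (show U.relIndex W ≤ 2 by omega)
    have hWsq : ∀ w ∈ W, w ^ 2 = 1 := fun w hw => hVsq w (mem_inf.1 hw).1
    have hy2 : ∀ w ∈ U ⊓ W1, x ^ 2 * w = w * x ^ 2 := by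
      rintro w ⟨hw, u, hu, huw⟩
      have c1 : Commute a w := (mem_centralizer_singleton_iff.1 (mem_inf.1 hw).2).symm
      have c2 : Commute (x * a * x⁻¹) w := by
        rw [← huw]
        show x * a * x⁻¹ * (x * u * x⁻¹) = x * u * x⁻¹ * (x * a * x⁻¹)
        calc x * a * x⁻¹ * (x * u * x⁻¹) = x * (a * u) * x⁻¹ := by group
          _ = x * u * x⁻¹ * (x * a * x⁻¹) := by
              rw [← (mem_centralizer_singleton_iff.1 (mem_inf.1 hu).2)]; group
      have e : x ^ 2 = x * a * x⁻¹ * a := by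
        calc x ^ 2 = x * (x⁻¹)⁻¹ := by rw [sq, inv_inv]
          _ = x * (a * x⁻¹ * a⁻¹) := by
              rw [show a * x⁻¹ * a⁻¹ = (a * x * a⁻¹)⁻¹ by group, hxinv]
          _ = x * a * x⁻¹ * a := by rw [hai]; group
      rw [e]
      exact (c2.mul_left c1).eq
    have hall := centralizes_of_index_le_four (y := x ^ 2) (W := W) (U := U ⊓ W1)
      (inf_le_left.trans inf_le_left) hWsq hp hp5
      (by rw [← pow_mul, mul_comm, pow_mul, ← hxo, pow_orderOf_eq_one, one_pow])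
      (pow_mem hxW 2) hy2 hle
    have hWfix : ∀ v ∈ V, (∀ b ∈ B, b * v = v * b) → x * v = v * x := by
      intro v hv hvB
      have h1 : Commute (x ^ 2) v := hall v (mem_inf.2 ⟨hv, mem_centralizer_iff.2 hvB⟩)
      obtain ⟨j, hj⟩ := hp.odd_of_ne_two hpodd
      have e : x = (x ^ 2) ^ (j + 1) := by
        rw [← pow_mul, show 2 * (j + 1) = p + 1 by omega, pow_succ, ← hxo, pow_orderOf_eq_one, one_mul]
      rw [e]
      exact (h1.pow_left _).eq
    have hxV := centralizes_of_fixed (V := V) (B := B) hVsq (fun b hb => hAe b (hBA hb))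
      ((hBA.trans hAM).trans hMV) (hMV (hOM hxO)) hp hpodd hxo hBx hWfix
    have hx1 : x ∈ M ⊓ centralizer (V : Set X) :=
      mem_inf.2 ⟨hOM hxO, mem_centralizer_iff.2 fun v hv => (hxV v hv).symm⟩
    rw [hfaith, mem_bot] at hx1
    rw [hx1, orderOf_one] at hxo
    omega
  have h4 : 4 ≤ U.relIndex W := by
    have hW2 : IsPGroup 2 W := fun w => ⟨1, Subtype.ext (by simpa using hVsq w (mem_inf.1 w.2).1)⟩
    obtain ⟨e, he⟩ := IsPGroup.iff_card.1 hW2
    obtain ⟨i, -, hi⟩ := (Nat.dvd_prime_pow Nat.prime_two).1 (he ▸ relIndex_dvd_card U W)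
    rw [hi] at hmove ⊢
    rcases (show i = 0 ∨ i = 1 ∨ 2 ≤ i by omega) with rfl | rfl | h
    · omega
    · omega
    · exact (Nat.pow_le_pow_right two_pos h)
  rw [hUeq, ← relIndex_mul_relIndex U W V inf_le_left inf_le_left, ← hn, hcard, mul_pow, mul_comm]
  exact Nat.mul_le_mul h4 hih

theorem involves_perm_three (M V : Subgroup X) (hV : Cfsg.IsElementaryAbelian 2 V)
    (hMV : M ≤ normalizer (V : Set X)) (hfaith : M ⊓ centralizer (V : Set X) = ⊥)
    (hcon : centralizer (Cfsg.pPrimeCore 2 ↥M : Set ↥M) ≤ Cfsg.pPrimeCore 2 ↥M) (A : Subgroup X)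
    (hAM : A ≤ M) (hA : Cfsg.IsElementaryAbelian 2 A)
    (hsmall : (V ⊓ centralizer (A : Set X)).relIndex V < Nat.card A ^ 2) :
    Cfsg.Involves (Equiv.Perm (Fin 3)) ↥M := by
  haveI : Fact (Nat.Prime 2) := ⟨Nat.prime_two⟩
  haveI := hV.1
  haveI := hA.1
  rw [CfsgLib.ZJ.involves_perm_three_iff]
  by_contra hinv
  have hno3 : ∀ a ∈ M, ∀ x ∈ M, orderOf x = 3 → a * x * a⁻¹ ≠ x⁻¹ := by
    intro a ha x hx ho h
    refine hinv ⟨⟨a, ha⟩, ⟨x, hx⟩, fun e => ?_, ⟨1, Subtype.ext ?_⟩, Subtype.ext h⟩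
    · rw [show x = 1 from congrArg Subtype.val e, orderOf_one] at ho
      omega
    · show x ^ 3 ^ 1 = 1
      rw [pow_one, ← ho, pow_orderOf_eq_one]
  set K := Cfsg.pPrimeCore 2 ↥M
  haveI : K.Normal := CfsgLib.Solvable.pPrimeCore_normal 2
  set O := K.map M.subtype
  have hOodd : Odd (Nat.card O) := by
    rw [card_map_of_injective M.subtype_injective]
    exact Nat.coprime_two_right.1 (CfsgLib.Solvable.coprime_card_pPrimeCore 2)
  refine absurd hsmall (not_lt.2 (sq_le_relIndex M V O hV.2 hMV hfaith (map_subtype_le _) hOodd hno3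
    _ A rfl hAM (fun a ha b hb => congrArg Subtype.val (mul_comm' (⟨a, ha⟩ : A) ⟨b, hb⟩)) hA.2 ?_ ?_))
  · intro a ha
    have hf : ∀ c ∈ M, ∀ o ∈ O, c * o * c⁻¹ ∈ O := by
      rintro c hc _ ⟨o, ho, rfl⟩
      exact ⟨_, Normal.conj_mem ‹K.Normal› o ho ⟨c, hc⟩, rfl⟩
    refine mem_normalizer_iff.2 fun o => ⟨hf a (hAM ha) o, fun h => ?_⟩
    simpa [mul_assoc] using hf a⁻¹ (inv_mem (hAM ha)) _ h
  · intro a ha hcomm
    have h1 : (⟨a, hAM ha⟩ : M) ∈ centralizer (K : Set M) :=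
      mem_centralizer_iff.2 fun o ho => Subtype.ext (hcomm o ⟨o, ho, rfl⟩).symm
    have h2 : a ∈ O := ⟨_, hcon h1, rfl⟩
    have h3 : orderOf a ∣ 2 := orderOf_dvd_of_pow_eq_one (hA.2 a ha)
    refine orderOf_eq_one_iff.1 (((Nat.dvd_prime Nat.prime_two).1 h3).resolve_right fun h => ?_)
    exact Nat.two_dvd_ne_zero.2 (Nat.odd_iff.1 hOodd) (h ▸ Subgroup.orderOf_dvd_natCard O h2)

end CfsgLib.OffenderTwo
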